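import Mathlib
import Groth.Agent.Lib.PunctB6.Hull
import Groth.Agent.Lib.SpreadLfp9.Components

/-!
# Opens with affine inclusion containing a fixed dense open
-/

set_option autoImplicit false
set_option linter.all false
set_option backward.isDefEq.respectTransparency false

universe u

open CategoryTheory CategoryTheory.Limits AlgebraicGeometry TopologicalSpace

namespace GrothLib.MinAffOpen13

theorem exists_maximal_points {α : Type u} [TopologicalSpace α] [T0Space α] [QuasiSober α]
    [NoetherianSpace α] (C : Closeds α) :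
    ∃ G : Finset α, (∀ x ∈ C, ∃ g ∈ G, g ∈ C ∧ g ⤳ x ∧ ∀ w ∈ C, w ⤳ g → w = g) ∧
      ∀ z ∈ C, (∀ w ∈ C, w ⤳ z → w = z) → z ∈ G := by
  classical
  obtain ⟨T, hT, hC⟩ := NoetherianSpace.exists_finset_irreducible C
  have hgen : ∀ k : T, ∃ g : α, IsGenericPoint g (k.1 : Set α) := fun k =>
    QuasiSober.sober (hT k) k.1.isClosed
  choose gen hgen using hgen
  let G : Finset α := Finset.univ.image gen
  have hmem : ∀ k : T, gen k ∈ C := fun k => by
    have h1 : k.1 ≤ C := hC ▸ Finset.le_sup (f := id) k.2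
    exact h1 (hgen k).mem
  have hcov : ∀ x ∈ C, ∃ g ∈ G, g ∈ C ∧ g ⤳ x := by
    intro x hx
    rw [hC] at hx
    have key : ∀ T' : Finset (Closeds α), x ∈ T'.sup id → ∃ k ∈ T', x ∈ k := by
      intro T'
      induction T' using Finset.induction with
      | empty => intro h; exact (show x ∈ (∅ : Set α) from h).elim
      | insert a t ha ih =>
        intro h
        rw [Finset.sup_insert] at h
        rcases h with h | h
        · exact ⟨a, Finset.mem_insert_self _ _, h⟩
        · obtain ⟨k, hk, hxk⟩ := ih h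
          exact ⟨k, Finset.mem_insert_of_mem hk, hxk⟩
    obtain ⟨k, hk, hxk⟩ := key T hx
    exact ⟨gen ⟨k, hk⟩, Finset.mem_image_of_mem _ (Finset.mem_univ _), hmem _, (hgen ⟨k, hk⟩).specializes hxk⟩
  refine ⟨G, fun x hx => ?_, fun z hz hmax => ?_⟩
  · let Gx : Set α := {g | g ∈ G ∧ g ∈ C ∧ g ⤳ x}
    have hfin : Gx.Finite := G.finite_toSet.subset fun g hg => hg.1
    obtain ⟨g, ⟨hgG, hgC, hgx⟩, hgmax⟩ := hfin.exists_maximalFor (fun g => closure {g}) Gx (by
      obtain ⟨g, h1, h2, h3⟩ := hcov x hx; exact ⟨g, h1, h2, h3⟩)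
    refine ⟨g, hgG, hgC, hgx, fun w hw hwg => ?_⟩
    obtain ⟨g', h1, h2, h3⟩ := hcov w hw
    have hle := hgmax (j := g') ⟨h1, h2, (h3.trans hwg).trans hgx⟩ (h3.trans hwg).closure_subset
    have h4 : g ⤳ g' := specializes_iff_closure_subset.2 hle
    exact (hwg.antisymm (h4.trans h3)).eq
  · obtain ⟨g, hgG, hgC, hgz⟩ := hcov z hz
    exact hmax g hgC hgz ▸ hgG

/-- A maximal point of the complement of an open with affine inclusion has local ring of dimension at
most one. -/
theorem ringKrullDim_stalk_le_one {S : Scheme.{u}} [IsLocallyNoetherian S] (V : S.Opens)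
    [IsAffineHom V.ι] (z : S) (hz : z ∉ V) (hmax : ∀ w ∉ V, w ⤳ z → w = z) :
    ringKrullDim (S.presheaf.stalk z) < 2 := by
  by_contra hlt
  rw [not_lt] at hlt
  let A := S.presheaf.stalk z
  let j := S.fromSpecStalk z
  let W : (Spec A).Opens := j ⁻¹ᵁ V
  have hW : IsAffineOpen W := by
    haveI : IsAffine (pullback j V.ι) := inferInstance
    exact IsAffine.of_isIso (isPullback_morphismRestrict j V).flip.isoPullback.hom
  have hout : ∀ p : Spec A, p ∉ W → p = IsLocalRing.closedPoint A := by
    intro p hp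
    have hpz : j p ⤳ z := by
      have : j p ∈ Set.range j := ⟨p, rfl⟩
      rwa [Scheme.range_fromSpecStalk] at this
    have := hmax (j p) hp hpz
    apply j.isEmbedding.injective
    rw [this]
    exact Scheme.fromSpecStalk_closedPoint.symm
  have hcodim : ∀ x : Spec A, x ∉ W → (2 : WithBot ℕ∞) ≤ ringKrullDim ((Spec A).presheaf.stalk x) := by
    intro x hx
    obtain rfl := hout x hx
    let _ : Algebra A ((Spec A).presheaf.stalk (IsLocalRing.closedPoint A)) := StructureSheaf.stalkAlgebra _ _
    haveI : IsLocalization.AtPrime ((Spec A).presheaf.stalk (IsLocalRing.closedPoint A))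
        (IsLocalRing.closedPoint A).asIdeal := StructureSheaf.IsLocalization.to_stalk A _
    rw [IsLocalization.AtPrime.ringKrullDim_eq_height (IsLocalRing.closedPoint A).asIdeal]
    show _ ≤ ((IsLocalRing.maximalIdeal A).height : WithBot ℕ∞)
    rwa [IsLocalRing.maximalIdeal_height_eq_ringKrullDim]
  have hs := PunctB6.surjective_specMap (A := A) W hcodim
  let e := hW.fromSpec
  have hfac : Spec.map ((Spec A).presheaf.map (homOfLE (le_top : W ≤ ⊤)).op) ≫ (isAffineOpen_top (Spec A)).fromSpec = e :=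
    (isAffineOpen_top (Spec A)).map_fromSpec hW (homOfLE (le_top : W ≤ ⊤)).op
  haveI : IsIso (isAffineOpen_top (Spec A)).fromSpec := by rw [IsAffineOpen.fromSpec_top]; infer_instance
  obtain ⟨p', hp'⟩ := hs.surj (inv (isAffineOpen_top (Spec A)).fromSpec (IsLocalRing.closedPoint A))
  have h2 : e p' ∈ W := by
    have : e p' ∈ Set.range e := ⟨p', rfl⟩
    rwa [hW.range_fromSpec] at this
  rw [← hfac, Scheme.Hom.comp_apply, hp', ← Scheme.Hom.comp_apply, IsIso.inv_hom_id] at h2
  change IsLocalRing.closedPoint A ∈ W at h2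
  apply hz
  have h3 : j (IsLocalRing.closedPoint A) ∈ V := h2
  rwa [Scheme.fromSpecStalk_closedPoint] at h3

/-- Finitely many opens containing a dense open have affine inclusion, and there is a smallest one. -/
theorem finite_and_exists_least (S : Scheme.{u}) [IsNoetherian S] [S.IsSeparated] (U : S.Opens)
    (hU : Dense (U : Set S)) :
    Set.Finite {V : S.Opens | U ≤ V ∧ IsAffineHom V.ι} ∧
      ∃ V₀ : S.Opens, (U ≤ V₀ ∧ IsAffineHom V₀.ι) ∧
        ∀ V : S.Opens, U ≤ V → IsAffineHom V.ι → V₀ ≤ V := by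
  classical
  let D : Closeds S := ⟨(U : Set S)ᶜ, U.2.isClosed_compl⟩
  obtain ⟨G, hG1, hG2⟩ := exists_maximal_points D
  have hkey : ∀ V : S.Opens, U ≤ V → IsAffineHom V.ι → ∀ z ∉ V, (∀ w ∉ V, w ⤳ z → w = z) → z ∈ G := by
    intro V hUV hV z hz hmax
    refine hG2 z (fun h => hz (hUV h)) fun w hw hwz => ?_
    by_contra hne
    have hdim := ringKrullDim_stalk_le_one V z hz hmax
    rw [ringKrullDim_stalk_eq_coheight] at hdim
    -- `w` is then a generic point of a component, hence in `U`
    obtain ⟨η, hη, hηw⟩ := SpreadLfp9.exists_generic w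
    have hwη : η = w := by
      by_contra hne'
      have h1 : (z : S) < w := lt_of_le_not_ge hwz fun h => hne (Specializes.antisymm hwz h).eq
      have h2 : (w : S) < η := lt_of_le_not_ge hηw fun h => hne' (Specializes.antisymm hηw h).eq
      have h3 : (2 : ℕ∞) ≤ Order.coheight z := by
        have a1 := Order.coheight_add_one_le h2
        have a2 := Order.coheight_add_one_le h1
        calc (2 : ℕ∞) = 0 + 1 + 1 := by norm_num
          _ ≤ Order.coheight η + 1 + 1 := by gcongr; simp
          _ ≤ Order.coheight w + 1 := by gcongr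
          _ ≤ Order.coheight z := a2
      exact not_lt.2 (WithBot.coe_le_coe.2 h3) hdim
    exact hw (hwη ▸ SpreadLfp9.generic_mem_of_dense
      (TopologicalSpace.NoetherianSpace.finite_irreducibleComponents (α := S)) hU hη)
  let 𝒱 : Set S.Opens := {V : S.Opens | U ≤ V ∧ IsAffineHom V.ι}
  have hfin : 𝒱.Finite := by
    let F : S.Opens → Finset S := fun V => G.filter fun g => g ∈ V
    refine Set.Finite.of_finite_image (f := F) ?_ ?_
    · exact (G.powerset.finite_toSet).subset (by
        rintro _ ⟨V, -, rfl⟩; exact Finset.mem_powerset.2 (Finset.filter_subset _ _))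
    · intro V hV V' hV' h
      have key : ∀ A ∈ 𝒱, ∀ B : S.Opens, F A = F B → B ≤ A := by
        intro A hA B hAB x hx
        by_contra hxA
        obtain ⟨G', hG'1, -⟩ := exists_maximal_points (⟨(A : Set S)ᶜ, A.2.isClosed_compl⟩ : Closeds S)
        obtain ⟨g, -, hgA, hgx, hgmax⟩ := hG'1 x hxA
        have hgG : g ∈ G := hkey A hA.1 hA.2 g hgA hgmax
        have hgB : g ∈ F B := Finset.mem_filter.2 ⟨hgG, hgx.mem_open B.2 hx⟩
        rw [← hAB] at hgB
        exact hgA (Finset.mem_filter.1 hgB).2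
      exact le_antisymm (key V' hV' V h.symm) (key V hV V' h)
  refine ⟨hfin, hfin.toFinset.inf id, ⟨Finset.le_inf fun V hV => (hfin.mem_toFinset.1 hV).1, ?_⟩,
    fun V h1 h2 => Finset.inf_le (f := id) (hfin.mem_toFinset.2 ⟨h1, h2⟩)⟩
  refine Finset.inf_induction (p := fun W : S.Opens => IsAffineHom W.ι) ?_ ?_ fun V hV => (hfin.mem_toFinset.1 hV).2
  · have : IsIso ((⊤ : S.Opens).ι) := inferInstanceAs (IsIso S.topIso.hom)
    infer_instance
  · intro V hV V' hV'
    refine isAffineHom_of_forall_exists_isAffineOpen _ fun x => ?_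
    obtain ⟨O, hO, hxO, -⟩ := exists_isAffineOpen_mem_and_subset (U := (⊤ : S.Opens)) (x := x) trivial
    refine ⟨O, hxO, hO, ?_⟩
    have him : ∀ A : S.Opens, IsAffineHom A.ι → IsAffineOpen (A ⊓ O) := fun A hA => by
      have := (hO.preimage A.ι).image_of_isOpenImmersion A.ι
      rwa [Scheme.Hom.image_preimage_eq_opensRange_inf, Scheme.Opens.opensRange_ι] at this
    rw [← Scheme.Hom.isAffineOpen_iff_of_isOpenImmersion (V ⊓ V').ι,
      Scheme.Hom.image_preimage_eq_opensRange_inf, Scheme.Opens.opensRange_ι, inf_inf_distrib_right]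
    exact (him V hV).inf (him V' hV')

end GrothLib.MinAffOpen13
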